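import Cfsg.Agent.H7.AN.Over
import Cfsg.Agent.H691.AN.Defs

/-!
# S4766, piece D1: inertia groups (helper7)
-/

set_option autoImplicit false

open Cfsg
open scoped ComplexConjugate commutatorElement

namespace Cfsg.Agent.H7.AN

open Cfsg.Agent.Characters.Core Cfsg.Agent.OddOrderCharacters.IndRes
  Cfsg.Agent.OddOrderCharacters.NormalInduced Cfsg.Agent.OddOrderCharacters
open Cfsg.Agent.OddOrderCharacters.PF9.CliffGen (inertia mem_inertia le_inertia resTo resTo_apply
  down classInner_down indFun_down resTo_res)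
open Cfsg.Agent.H691.AN

universe u

section act

variable {K : Type u} [Group K] (W : Subgroup K) [hW : W.Normal]

/-- conjugation on the linear characters of a normal subgroup -/
noncomputable def act : K →* MulAut (W →* ℂˣ) where
  toFun g :=
    { toFun := fun lam => lam.comp ((MulAut.conjNormal g⁻¹ : MulAut W) : W ≃* W).toMonoidHom
      invFun := fun lam => lam.comp ((MulAut.conjNormal g : MulAut W) : W ≃* W).toMonoidHom
      left_inv := by
        intro lam
        ext w
        show ((lam ((MulAut.conjNormal g⁻¹ : MulAut W) ((MulAut.conjNormal g : MulAut W) w)) : ℂˣ) : ℂ) = _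
        congr 2
        ext
        simp
      right_inv := by
        intro lam
        ext w
        show ((lam ((MulAut.conjNormal g : MulAut W) ((MulAut.conjNormal g⁻¹ : MulAut W) w)) : ℂˣ) : ℂ) = _
        congr 2
        ext
        simp
      map_mul' := fun _ _ => rfl }
  map_one' := by
    ext lam w
    show ((lam ((MulAut.conjNormal (1 : K)⁻¹ : MulAut W) w) : ℂˣ) : ℂ) = lam w
    congr 2
    ext
    simp
  map_mul' := by
    intro a b
    ext lam w
    show ((lam ((MulAut.conjNormal (a * b)⁻¹ : MulAut W) w) : ℂˣ) : ℂ) =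
      lam ((MulAut.conjNormal b⁻¹ : MulAut W) ((MulAut.conjNormal a⁻¹ : MulAut W) w))
    congr 2
    ext
    simp [mul_assoc]

theorem act_apply (g : K) (lam : W →* ℂˣ) (w : W) :
    act W g lam w = lam ⟨g⁻¹ * w * g, by simpa using hW.conj_mem w w.2 g⁻¹⟩ := by
  show lam ((MulAut.conjNormal g⁻¹ : MulAut W) w) = _
  congr 1
  ext
  simp

variable {W} in
theorem act_eq_iff {g : K} {lam : W →* ℂˣ} : act W g lam = lam ↔ g ∈ inertia W (lf lam) := by
  rw [PF9.CliffGen.mem_inertia']
  constructor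
  · intro h w
    have h1 := DFunLike.congr_fun h ⟨g * w * g⁻¹, hW.conj_mem w w.2 g⟩
    rw [act_apply] at h1
    show ((lam _ : ℂˣ) : ℂ) = lam w
    rw [← h1]
    congr 2
    ext
    simp [mul_assoc]
  · intro h
    ext w
    rw [act_apply]
    have h1 := h ⟨g⁻¹ * w * g, by simpa using hW.conj_mem w w.2 g⁻¹⟩
    have h2 : ((lam _ : ℂˣ) : ℂ) = ((lam _ : ℂˣ) : ℂ) := h1
    rw [← h2]
    congr 2
    ext
    simp [mul_assoc]

variable (hab : ∀ a ∈ W, ∀ b ∈ W, a * b = b * a)

/-- the action of the quotient -/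
noncomputable def actQ : K ⧸ W →* MulAut (W →* ℂˣ) :=
  QuotientGroup.lift W (act W) (by
    intro g hg
    ext lam w
    have h1 : act W g lam w = lam w := by
      rw [act_apply]
      congr 1
      ext
      show g⁻¹ * w * g = w
      rw [mul_assoc, hab w w.2 g hg, inv_mul_cancel_left]
    rw [h1]
    rfl)

theorem actQ_mk (g : K) : actQ W hab (g : K ⧸ W) = act W g := rfl

end act

theorem finite_dual {W : Type u} [Group W] [Finite W] : Finite (W →* ℂˣ) := by
  have : Finite (IrrCharacter W) := finite_irr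
  refine Finite.of_injective (fun lam : W →* ℂˣ => (⟨fun w => (lam w : ℂ), Characters.Linear.isIrrCharacter_hom lam⟩ :
    IrrCharacter W)) ?_
  intro a b h
  ext w
  exact congrFun (congrArg Subtype.val h) w

theorem exists_lin_ne {W : Type u} [Group W] [Finite W] (hab : ∀ a b : W, a * b = b * a) {a : W} (ha : a ≠ 1) :
    ∃ lam : W →* ℂˣ, lam a ≠ 1 := by
  let _ : CommGroup W := { (inferInstance : Group W) with mul_comm := hab }
  have : NeZero (Monoid.exponent W) := ⟨Monoid.exponent_ne_zero_of_finite⟩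
  exact CommGroup.exists_apply_ne_one_of_hasEnoughRootsOfUnity W ℂ ha

theorem card_conj_le {A B : Type*} [Group A] [Group B] [Finite B] (f : B →* A) (hf : Function.Surjective f) :
    Nat.card (ConjClasses A) ≤ Nat.card (ConjClasses B) := by
  have : Finite (ConjClasses B) := Quotient.finite _
  exact Nat.card_le_card_of_surjective _ (ConjClasses.map_surjective (f := f) hf)

/-- the inertia group of a linear character and its degrees -/
theorem core {n : ℕ} {K : Type u} [Group K] [Finite K] (W : Subgroup K) [hW : W.Normal] (e : K ⧸ W ≃* An n)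
    (lam : W →* ℂˣ) (T : Subgroup (An n))
    (hT : ∀ g : K, e (g : K ⧸ W) ∈ T ↔ g ∈ inertia W (lf lam)) :
    ∃ c : ℕ, T.index * c ∈ charDegrees K ∧ Nat.card T ≤ Nat.card (ConjClasses T) * c ^ 2 := by
  classical
  have : Fintype K := Fintype.ofFinite _
  have : Fintype W := Fintype.ofFinite _
  set I : Subgroup K := inertia W (lf lam) with hI
  have : Fintype I := Fintype.ofFinite _
  have hWI : W ≤ I := le_inertia (isIrr_isClassFunction (isIrr_lf lam))
  have : Fintype (W.subgroupOf I) := Fintype.ofFinite _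
  -- the projection
  let π : K →* An n := e.toMonoidHom.comp (QuotientGroup.mk' W)
  have hπ : Function.Surjective π := e.surjective.comp (QuotientGroup.mk'_surjective W)
  have hπk : ∀ g, π g = 1 ↔ g ∈ W := by
    intro g
    show e (g : K ⧸ W) = 1 ↔ _
    rw [EmbeddingLike.map_eq_one_iff, QuotientGroup.eq_one_iff]
  have hcomap : T.comap π = I := by
    ext g
    exact hT g
  have hidx : T.index = I.index := by
    rw [← hcomap, Subgroup.index_comap_of_surjective _ hπ]
  let σ : I →* T := (π.comp I.subtype).codRestrict T (fun g => (hT g).2 g.2)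
  have hσ : Function.Surjective σ := by
    rintro ⟨t, ht⟩
    obtain ⟨g, rfl⟩ := hπ t
    exact ⟨⟨g, (hT g).1 ht⟩, rfl⟩
  have hker : σ.ker = W.subgroupOf I := by
    ext g
    rw [MonoidHom.mem_ker, Subgroup.mem_subgroupOf, ← hπk]
    exact Subtype.ext_iff
  let ε : I ⧸ W.subgroupOf I ≃* T :=
    (QuotientGroup.quotientMulEquivOfEq hker.symm).trans (QuotientGroup.quotientKerEquivOfSurjective σ hσ)
  -- the big character
  let lam' : W.subgroupOf I →* ℂˣ := lam.comp ((Subgroup.subgroupOfEquivOfLe hWI).toMonoidHom)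
  have hlam' : lf lam' = down W I (lf lam) := rfl
  have hinv : Inv (W.subgroupOf I) lam' := by
    intro g w
    have h1 : (g : K) ∈ inertia W (lf lam) := g.2
    rw [PF9.CliffGen.mem_inertia'] at h1
    have h2 := h1 ⟨((w : I) : K), Subgroup.mem_subgroupOf.1 w.2⟩
    exact Units.ext h2
  obtain ⟨χ, c, hχ, h0, hc, hle⟩ := exists_big hinv
  have h0' : classInner (resTo hWI χ) (lf lam) ≠ 0 := by
    rw [← classInner_down hWI]
    exact h0
  have hind := PF9.CliffGen.irr_ind (isIrr_lf lam) (fun _ => Iff.rfl) hWI hχ h0'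
  refine ⟨c, ?_, ?_⟩
  · rw [H424.DegTools.mem_charDegrees]
    refine ⟨indFun I χ, hind, ?_⟩
    rw [indFun_apply_one, hc, hidx]
    push_cast
    rfl
  · rw [Nat.card_congr ε.symm.toEquiv]
    exact hle.trans (Nat.mul_le_mul_right _ (card_conj_le ε.symm.toMonoidHom ε.symm.surjective))

/-- D1 of S4766: the inertia groups (`V` is a noncentral chief factor of `G`) -/
theorem d1_inert {n : ℕ} (_hn : 5 ≤ n) {G : Type u} [Group G] [Finite G] (h : charDegrees G ⊆ D n) (N V : Subgroup G)
    [N.Normal] [V.Normal] (hVN : V ≤ N) (e : (N ⧸ V.subgroupOf N) ≃* An n) (hab : ⁅V, V⁆ = ⊥)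
    (hmin : ∀ K : Subgroup G, K.Normal → K ≤ V → K = ⊥ ∨ K = V) (hnc : ¬ V ≤ Subgroup.centralizer (N : Set G)) :
    ∃ (Λ : Type u) (_ : CommGroup Λ) (_ : Finite Λ) (_ : MulDistribMulAction (An n) Λ), Nontrivial Λ ∧
      (∀ v : Λ, (∀ g : An n, g • v = v) → v = 1) ∧ ∀ v : Λ, v ≠ 1 → Inert n (MulAction.stabilizer (An n) v) := by
  classical
  set W : Subgroup N := V.subgroupOf N with hWdef
  have hcomm : ∀ a ∈ V, ∀ b ∈ V, a * b = b * a := by
    intro a ha b hb
    have h1 : ⁅a, b⁆ ∈ ⁅V, V⁆ := Subgroup.commutator_mem_commutator ha hb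
    rw [hab, Subgroup.mem_bot, commutatorElement_eq_one_iff_mul_comm] at h1
    exact h1
  have habW : ∀ a ∈ W, ∀ b ∈ W, a * b = b * a := by
    intro a ha b hb
    apply Subtype.ext
    exact hcomm a (Subgroup.mem_subgroupOf.1 ha) b (Subgroup.mem_subgroupOf.1 hb)
  let Φ : An n →* MulAut (W →* ℂˣ) := (actQ W habW).comp e.symm.toMonoidHom
  let act0 : MulDistribMulAction (An n) (W →* ℂˣ) :=
    { smul := fun g lam => Φ g lam
      one_smul := fun lam => by show Φ 1 lam = lam; rw [map_one]; rfl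
      mul_smul := fun a b lam => by show Φ (a * b) lam = Φ a (Φ b lam); rw [map_mul]; rfl
      smul_mul := fun g a b => map_mul (Φ g) a b
      smul_one := fun g => map_one (Φ g) }
  have hsm : ∀ (g : N) (lam : W →* ℂˣ), e (g : N ⧸ W) • lam = act W g lam := by
    intro g lam
    show Φ (e (g : N ⧸ W)) lam = _
    show (actQ W habW) (e.symm (e (g : N ⧸ W))) lam = _
    rw [e.symm_apply_apply]
    rfl
  have hne : V ≠ ⊥ := by
    rintro rfl
    exact hnc bot_le
  refine ⟨W →* ℂˣ, inferInstance, finite_dual, act0, ?_, ?_, ?_⟩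
  · obtain ⟨a, ha1⟩ := V.ne_bot_iff_exists_ne_one.1 hne
    have ha1' : (⟨⟨a, hVN a.2⟩, Subgroup.mem_subgroupOf.2 a.2⟩ : W) ≠ 1 := by
      intro h1
      apply ha1
      apply Subtype.ext
      exact congrArg (fun x : W => ((x : N) : G)) h1
    obtain ⟨lam, hlam⟩ := exists_lin_ne (fun a b : W => Subtype.ext (habW a a.2 b b.2)) ha1'
    exact ⟨lam, 1, fun h1 => hlam (by rw [h1]; rfl)⟩
  · intro lam hlam
    have hinv : ∀ g : N, act W g lam = lam := fun g => by rw [← hsm]; exact hlam _
    -- `[V, N] = V`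
    have hVN' : ⁅V, N⁆ = V := by
      rcases hmin ⁅V, N⁆ inferInstance (Subgroup.commutator_le_left V N) with h1 | h1
      · exfalso
        apply hnc
        exact (Subgroup.commutator_eq_bot_iff_le_centralizer).1 h1
      · exact h1
    have hkey : ⁅V, N⁆ ≤ (lam.ker.map W.subtype).map N.subtype := by
      rw [Subgroup.commutator_le]
      intro v hv g hg
      refine ⟨⁅(⟨v, hVN hv⟩ : N), ⟨g, hg⟩⁆, ?_, rfl⟩
      have hvW : (⟨v, hVN hv⟩ : N) ∈ W := Subgroup.mem_subgroupOf.2 hv
      have hcW : ⁅(⟨v, hVN hv⟩ : N), ⟨g, hg⟩⁆ ∈ W :=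
        Subgroup.commutator_le_left W ⊤ |> fun hle => hle (Subgroup.commutator_mem_commutator hvW (Subgroup.mem_top _))
      refine ⟨⟨_, hcW⟩, ?_, rfl⟩
      rw [SetLike.mem_coe, MonoidHom.mem_ker]
      have h2 := DFunLike.congr_fun (hinv (⟨g, hg⟩ : N)⁻¹) (⟨_, hvW⟩ : W)⁻¹
      rw [act_apply] at h2
      have h3 : (⟨_, hcW⟩ : W) = ⟨_, hvW⟩ * ⟨(⟨g, hg⟩ : N)⁻¹⁻¹ * ((⟨_, hvW⟩ : W)⁻¹ : W) * (⟨g, hg⟩ : N)⁻¹,
          by simpa using (inferInstance : W.Normal).conj_mem _ (W.inv_mem hvW) (⟨g, hg⟩ : N)⟩ := by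
        apply Subtype.ext
        apply Subtype.ext
        show v * g * v⁻¹ * g⁻¹ = v * (g⁻¹⁻¹ * v⁻¹ * g⁻¹)
        group
      rw [h3, map_mul, h2, ← map_mul, mul_inv_cancel, map_one]
    rw [hVN'] at hkey
    ext w
    obtain ⟨x, ⟨y, hy, hyx⟩, hxw⟩ := hkey (Subgroup.mem_subgroupOf.1 w.2)
    have h4 : y = w := by
      apply Subtype.ext
      apply Subtype.ext
      rw [← hxw, ← hyx]
      rfl
    rw [← h4, MonoidHom.mem_ker.1 hy]
    rfl
  · intro lam _
    obtain ⟨c, hc, hle⟩ := core W e lam (MulAction.stabilizer (An n) lam) (by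
      intro g
      rw [MulAction.mem_stabilizer_iff, hsm, act_eq_iff])
    obtain ⟨d, hd, hdvd, -⟩ := H424.DegTools.clifford_up N hc
    exact ⟨c, d, h hd, hdvd, hle⟩

end Cfsg.Agent.H7.AN
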