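import Cfsg.Agent.H591.Cliff
import Cfsg.Agent.H424.DegTools
import Cfsg.Agent.Characters.CentralCharacter

/-!
# Characters over an invariant linear character (helper7)

`K` a finite group, `W` a normal subgroup, `lam : W →* ℂˣ` a linear character which is invariant under `K`.

* `mul_of_over` : an irreducible character `χ` over `lam` satisfies `χ (x * w) = lam w * χ x`;
* `sum_sq` : the sum of the squares of the degrees of the irreducible characters over `lam` is `|K : W|`;
* `card_over_le` : their number is at most the number of classes of `K / W`;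
* `exists_big` : some irreducible character over `lam` has degree `e` with `|K : W| ≤ k(K / W) * e ^ 2`.
-/

set_option autoImplicit false

open Cfsg
open scoped ComplexConjugate

namespace Cfsg.Agent.H7.AN

open Cfsg.Agent.Characters.Core Cfsg.Agent.OddOrderCharacters.IndRes
  Cfsg.Agent.OddOrderCharacters.NormalInduced Cfsg.Agent.OddOrderCharacters

universe u

variable {K : Type u} [Group K]

/-- the linear character as a function -/
noncomputable def lf {W : Subgroup K} (lam : W →* ℂˣ) : W → ℂ := fun w => (lam w : ℂ)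

theorem isIrr_lf {W : Subgroup K} (lam : W →* ℂˣ) : IsIrrCharacter W (lf lam) :=
  Characters.Linear.isIrrCharacter_hom lam

/-- `lam` is invariant under `K` -/
def Inv (W : Subgroup K) [hW : W.Normal] (lam : W →* ℂˣ) : Prop :=
  ∀ (g : K) (w : W), lam ⟨g * w * g⁻¹, hW.conj_mem w w.2 g⟩ = lam w

theorem mul_of_over [Fintype K] {W : Subgroup K} [Fintype W] [hW : W.Normal] {lam : W →* ℂˣ} (hinv : Inv W lam)
    {χ : K → ℂ} (hχ : IsIrrCharacter K χ) (h0 : classInner (res W χ) (lf lam) ≠ 0) (x : K) (w : W) :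
    χ (x * w) = lam w * χ x := by
  classical
  obtain ⟨n, ρ, hρ, rfl⟩ := hχ
  have := hρ
  -- the averaging operator
  set P : (Fin n → ℂ) →ₗ[ℂ] (Fin n → ℂ) := ∑ v : W, (((lam v)⁻¹ : ℂˣ) : ℂ) • ρ (v : K) with hP
  have hcomm : ∀ g v, P (ρ g v) = ρ g (P v) := by
    intro g v
    simp only [hP, LinearMap.sum_apply, LinearMap.smul_apply, map_sum, map_smul]
    rw [← Equiv.sum_comp (MulAut.conjNormal g : MulAut W).toEquiv]
    refine Finset.sum_congr rfl fun y _ => ?_
    have h1 : lam ((MulAut.conjNormal g : MulAut W) y) = lam y := by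
      have := hinv g y
      rw [← this]
      congr 1
    have h2 : (((MulAut.conjNormal g : MulAut W) y : W) : K) = g * y * g⁻¹ := rfl
    show (((lam ((MulAut.conjNormal g : MulAut W) y))⁻¹ : ℂˣ) : ℂ) •
      ρ (((MulAut.conjNormal g : MulAut W) y : W) : K) (ρ g v) = _
    rw [h1, h2]
    congr 1
    rw [← Module.End.mul_apply, ← map_mul, ← Module.End.mul_apply, ← map_mul]
    congr 2
    group
  obtain ⟨c, hc⟩ := Characters.CentralCharacter.exists_scalar_of_commute ρ P hcomm
  have hc0 : c ≠ 0 := by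
    rintro rfl
    apply h0
    have h1 : LinearMap.trace ℂ _ P = 0 := by rw [hc, zero_smul, map_zero]
    have h2 : LinearMap.trace ℂ _ P = ∑ v : W, (((lam v)⁻¹ : ℂˣ) : ℂ) * ρ.character (v : K) := by
      rw [hP, map_sum]
      refine Finset.sum_congr rfl fun v _ => ?_
      rw [map_smul]
      rfl
    rw [classInner_def]
    have h3 : ∀ v : W, res W ρ.character v * conj (lf lam v) = (((lam v)⁻¹ : ℂˣ) : ℂ) * ρ.character (v : K) := by
      intro v
      have h4 : conj (lf lam v) = (((lam v)⁻¹ : ℂˣ) : ℂ) := by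
        rw [← isCharacter_apply_inv (isIrr_isCharacter (isIrr_lf lam)) v]
        show ((lam v⁻¹ : ℂˣ) : ℂ) = _
        rw [map_inv]
      rw [h4, mul_comm]
      rfl
    rw [Finset.sum_congr rfl (fun v _ => h3 v), ← h2, h1, mul_zero]
  -- translation by `w`
  have hw : ρ (w : K) ∘ₗ P = ((lam w : ℂˣ) : ℂ) • P := by
    apply LinearMap.ext
    intro v
    simp only [hP, LinearMap.comp_apply, LinearMap.sum_apply, LinearMap.smul_apply, map_sum, map_smul,
      Finset.smul_sum]
    rw [← Equiv.sum_comp (Equiv.mulLeft w)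
      (fun z : W => ((lam w : ℂˣ) : ℂ) • ((((lam z)⁻¹ : ℂˣ) : ℂ) • (ρ (z : K)) v))]
    refine Finset.sum_congr rfl fun y _ => ?_
    simp only [Equiv.coe_mulLeft, Subgroup.coe_mul, map_mul, mul_inv, Units.val_mul]
    rw [smul_smul, ← mul_assoc, ← Module.End.mul_apply]
    congr 1
    rw [Units.val_inv_eq_inv_val, Units.val_inv_eq_inv_val, mul_inv_cancel₀ (Units.ne_zero _), one_mul]
  have hsc : ρ (w : K) = ((lam w : ℂˣ) : ℂ) • (LinearMap.id : (Fin n → ℂ) →ₗ[ℂ] (Fin n → ℂ)) := by
    rw [hc] at hw
    apply LinearMap.ext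
    intro v
    have h5 := congrArg (fun f => f v) hw
    simp only [LinearMap.comp_apply, LinearMap.smul_apply, LinearMap.id_apply, map_smul] at h5
    rw [smul_comm] at h5
    exact smul_right_injective _ hc0 h5
  show LinearMap.trace ℂ _ (ρ (x * w)) = _ * LinearMap.trace ℂ _ (ρ x)
  rw [map_mul, hsc]
  have : (ρ x * ((lam w : ℂˣ) : ℂ) • (LinearMap.id : (Fin n → ℂ) →ₗ[ℂ] (Fin n → ℂ))) = ((lam w : ℂˣ) : ℂ) • ρ x := by
    apply LinearMap.ext
    intro v
    simp
  rw [this, map_smul, smul_eq_mul]

/-- the multiplicity of `lam` in `χ` is the degree of `χ` -/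
theorem inner_of_over [Fintype K] {W : Subgroup K} [Fintype W] [hW : W.Normal] {lam : W →* ℂˣ} (hinv : Inv W lam)
    {χ : K → ℂ} (hχ : IsIrrCharacter K χ) (h0 : classInner (res W χ) (lf lam) ≠ 0) :
    classInner (res W χ) (lf lam) = χ 1 := by
  have h1 : res W χ = χ 1 • lf lam := by
    funext w
    have h2 := mul_of_over hinv hχ h0 1 w
    rw [one_mul] at h2
    show χ (w : K) = χ 1 * lam w
    rw [h2, mul_comm]
  rw [h1, classInner_smul_left, classInner_irr_self (isIrr_lf lam), mul_one]

/-- the irreducible characters over `lam` -/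
noncomputable def irrOver [Fintype K] (W : Subgroup K) [Fintype W] [Fintype (IrrCharacter K)] (lam : W →* ℂˣ) :
    Finset (IrrCharacter K) := by
  classical
  exact Finset.univ.filter (fun χ => classInner (res W (χ : K → ℂ)) (lf lam) ≠ 0)

theorem mem_over [Fintype K] {W : Subgroup K} [Fintype W] [Fintype (IrrCharacter K)] {lam : W →* ℂˣ}
    {χ : IrrCharacter K} : χ ∈ irrOver W lam ↔ classInner (res W (χ : K → ℂ)) (lf lam) ≠ 0 := by
  classical
  unfold irrOver
  simp

theorem isClassFunction_indFun' [Fintype K] (W : Subgroup K) (θ : W → ℂ) : IsClassFunction K (indFun W θ) :=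
  OddOrderCharacters.Clifford.isClassFunction_indFun W θ

theorem sum_sq [Fintype K] {W : Subgroup K} [Fintype W] [hW : W.Normal] [Fintype (IrrCharacter K)] {lam : W →* ℂˣ}
    (hinv : Inv W lam) : ∑ χ ∈ irrOver W lam, ((χ : K → ℂ) 1) ^ 2 = (W.index : ℂ) := by
  classical
  have h1 := congrFun (classFunction_eq_sum (isClassFunction_indFun' W (lf lam))) 1
  rw [indFun_apply_one, Finset.sum_apply] at h1
  have h2 : lf lam 1 = 1 := by
    show ((lam 1 : ℂˣ) : ℂ) = 1
    rw [map_one, Units.val_one]
  rw [h2, mul_one] at h1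
  rw [h1, ← Finset.sum_subset (Finset.subset_univ (irrOver W lam))]
  · refine Finset.sum_congr rfl fun χ hχ => ?_
    rw [mem_over] at hχ
    have h3 : classInner (indFun W (lf lam)) (χ : K → ℂ) = (χ : K → ℂ) 1 := by
      rw [← classInner_conj_symm, classInner_indFun_right W (lf lam) (isIrr_isClassFunction χ.2),
        inner_of_over hinv χ.2 hχ]
      obtain ⟨n, -, hn⟩ := isIrr_apply_one χ.2
      rw [hn, Complex.conj_natCast]
    rw [Pi.smul_apply, h3, smul_eq_mul, sq]
  · intro χ _ hχ
    rw [mem_over, not_not] at hχ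
    rw [Pi.smul_apply, ← classInner_conj_symm, classInner_indFun_right W (lf lam) (isIrr_isClassFunction χ.2), hχ,
      map_zero, zero_smul]

theorem card_over_le [Fintype K] {W : Subgroup K} [Fintype W] [hW : W.Normal] [Fintype (IrrCharacter K)]
    {lam : W →* ℂˣ} (hinv : Inv W lam) : (irrOver W lam).card ≤ Nat.card (ConjClasses (K ⧸ W)) := by
  classical
  have hF : Fintype (ConjClasses (K ⧸ W)) := Fintype.ofFinite _
  -- representatives
  have hrep : ∀ C : ConjClasses (K ⧸ W), ∃ x : K, ConjClasses.mk (x : K ⧸ W) = C := by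
    intro C
    obtain ⟨y, hy⟩ := ConjClasses.exists_rep C
    obtain ⟨x, hx⟩ := QuotientGroup.mk_surjective y
    exact ⟨x, by rw [hx, hy]⟩
  choose r hr using hrep
  have hli : LinearIndependent ℂ (fun χ : irrOver W lam => fun C : ConjClasses (K ⧸ W) => ((χ : IrrCharacter K) : K → ℂ) (r C)) := by
    rw [Fintype.linearIndependent_iff]
    intro c hc
    set f : K → ℂ := ∑ χ : irrOver W lam, c χ • ((χ : IrrCharacter K) : K → ℂ) with hf
    have hfr : ∀ C, f (r C) = 0 := by
      intro C
      have := congrFun hc C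
      rw [hf]
      simpa [Finset.sum_apply] using this
    have hcl : IsClassFunction K f := by
      intro g h
      simp only [hf, Finset.sum_apply, Pi.smul_apply]
      refine Finset.sum_congr rfl fun χ _ => ?_
      rw [isIrr_isClassFunction (χ : IrrCharacter K).2 g h]
    have hlam : ∀ (x : K) (w : W), f (x * w) = lam w * f x := by
      intro x w
      simp only [hf, Finset.sum_apply, Pi.smul_apply, smul_eq_mul, Finset.mul_sum]
      refine Finset.sum_congr rfl fun χ _ => ?_
      rw [mul_of_over hinv (χ : IrrCharacter K).2 (mem_over.1 χ.2) x w]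
      ring
    have hf0 : f = 0 := by
      funext y
      have h1 := hr (ConjClasses.mk (y : K ⧸ W))
      rw [ConjClasses.mk_eq_mk_iff_isConj, isConj_iff] at h1
      obtain ⟨g', hg'⟩ := h1
      obtain ⟨g, rfl⟩ := QuotientGroup.mk_surjective g'
      set x := r (ConjClasses.mk (y : K ⧸ W)) with hx
      have h2 : (g * x * g⁻¹)⁻¹ * y ∈ W := by
        rw [← QuotientGroup.eq]
        exact hg'
      have h3 : y = (g * x * g⁻¹) * ((⟨_, h2⟩ : W) : K) := by
        show y = (g * x * g⁻¹) * ((g * x * g⁻¹)⁻¹ * y)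
        group
      have h5 : f x = 0 := hfr _
      rw [h3, hlam, hcl x g, h5, mul_zero, Pi.zero_apply]
    intro χ
    have h4 : classInner f ((χ : IrrCharacter K) : K → ℂ) = c χ := by
      rw [hf, classInner_sum_left, Finset.sum_eq_single χ]
      · rw [classInner_smul_left, classInner_irr_self (χ : IrrCharacter K).2, mul_one]
      · intro η _ hη
        rw [classInner_smul_left, classInner_irr_ne (η : IrrCharacter K).2 (χ : IrrCharacter K).2, mul_zero]
        intro h5
        exact hη (Subtype.ext (Subtype.ext h5))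
      · intro h
        exact absurd (Finset.mem_univ _) h
    rw [← h4, hf0, classInner_zero_left]
  have h6 := hli.fintype_card_le_finrank
  rwa [Fintype.card_coe, Module.finrank_fintype_fun_eq_card, ← Nat.card_eq_fintype_card] at h6

/-- some irreducible character over `lam` has large degree -/
theorem exists_big [Fintype K] {W : Subgroup K} [Fintype W] [hW : W.Normal] {lam : W →* ℂˣ}
    (hinv : Inv W lam) : ∃ (χ : K → ℂ) (e : ℕ), IsIrrCharacter K χ ∧ classInner (res W χ) (lf lam) ≠ 0 ∧ χ 1 = e ∧
      Nat.card (K ⧸ W) ≤ Nat.card (ConjClasses (K ⧸ W)) * e ^ 2 := by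
  classical
  have : Finite (IrrCharacter K) := finite_irr
  have : Fintype (IrrCharacter K) := Fintype.ofFinite _
  choose d hd0 hd using fun χ : IrrCharacter K => isIrr_apply_one χ.2
  have hsum : ∑ χ ∈ irrOver W lam, (d χ) ^ 2 = W.index := by
    have := sum_sq hinv
    simp only [hd] at this
    exact_mod_cast this
  have hne : (irrOver W lam).Nonempty := by
    by_contra h
    rw [Finset.not_nonempty_iff_eq_empty] at h
    rw [h, Finset.sum_empty] at hsum
    exact Subgroup.index_ne_zero_of_finite hsum.symm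
  obtain ⟨χ, hχ, hmax⟩ := Finset.exists_max_image (irrOver W lam) d hne
  refine ⟨χ, d χ, χ.2, mem_over.1 hχ, hd χ, ?_⟩
  calc Nat.card (K ⧸ W) = ∑ χ ∈ irrOver W lam, (d χ) ^ 2 := by rw [hsum]; rfl
    _ ≤ ∑ _χ ∈ irrOver W lam, (d χ) ^ 2 := Finset.sum_le_sum fun η hη => Nat.pow_le_pow_left (hmax η hη) 2
    _ = (irrOver W lam).card * (d χ) ^ 2 := by rw [Finset.sum_const, smul_eq_mul]
    _ ≤ _ := Nat.mul_le_mul_right _ (card_over_le hinv)

end Cfsg.Agent.H7.AN
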